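import Groth.Agent.Pi1.H391.Stmts3
import Groth.Agent.Pi1.H391.LocTensor
import Groth.Agent.Pi1.H272.LazPerm
import Groth.Agent.Pi1.H390.KumBasic
import Groth.Agent.Pi1.H394.PolyConn

/-!
# (S5) of S3689: geometric connectedness of the complement in the Kummer cover

`connStage : Stmts3.ConnStage`.
-/

set_option autoImplicit false

universe u

open TensorProduct IsLocalRing

namespace Groth.Agent.Pi1.H938.ConnStage

open Groth.Agent.Hensel.Lazard (Laz)
open Groth.Agent.Pi1.H272 Groth.Agent.Pi1.H390 Groth.Agent.Pi1.H391 Groth.Agent.Pi1.H394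

theorem connectedSpace_of_away {S T : Type u} [CommRing S] [CommRing T] [Algebra S T] (f : S)
    [IsLocalization.Away f T]
    (h : IsConnected (PrimeSpectrum.basicOpen f : Set (PrimeSpectrum S))) :
    ConnectedSpace (PrimeSpectrum T) := by
  have he := PrimeSpectrum.localization_away_isOpenEmbedding T f
  have hr := PrimeSpectrum.localization_away_comap_range T f
  rw [← hr] at h
  rw [connectedSpace_iff_univ]
  refine ⟨?_, he.isInducing.isPreconnected_image.mp ?_⟩
  · obtain ⟨_, ⟨x, rfl⟩⟩ := h.1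
    exact ⟨x, trivial⟩
  · rw [Set.image_univ]
    exact h.2

theorem basicOpen_prod_pow {D : Type u} [CommRing D] {ι : Type*} [Fintype ι] (x : ι → D) (n : ι → ℕ)
    (hn : ∀ i, 1 ≤ n i) :
    PrimeSpectrum.basicOpen (∏ i, x i ^ n i) = PrimeSpectrum.basicOpen (∏ i, x i) := by
  ext p
  change (∏ i, x i ^ n i) ∉ p.asIdeal ↔ (∏ i, x i) ∉ p.asIdeal
  rw [not_iff_not, p.2.prod_mem_iff, p.2.prod_mem_iff]
  refine exists_congr fun i => and_congr Iff.rfl ?_
  exact p.2.pow_mem_iff_mem _ (by have := hn i; omega)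

open MvPolynomial in
theorem laz_ulift (σ : Type) (B : Type u) [CommRing B] :
    let := (rename ULift.down : MvPolynomial (ULift.{u} σ) B →ₐ[B] MvPolynomial σ B).toRingHom.toAlgebra
    Laz (MvPolynomial (ULift.{u} σ) B) (MvPolynomial σ B) := by
  let := (rename ULift.down : MvPolynomial (ULift.{u} σ) B →ₐ[B] MvPolynomial σ B).toRingHom.toAlgebra
  refine LazPerm.of_algEquiv (LazPerm.of_self (A := MvPolynomial (ULift.{u} σ) B)
    (B := MvPolynomial (ULift.{u} σ) B)) (AlgEquiv.ofBijective (Algebra.ofId _ _) ?_)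
  exact (renameEquiv B (Equiv.ulift.{u} (α := σ))).bijective

open MvPolynomial in
theorem isConnected_kummer {σ : Type} (B : Type u) [CommRing B] (R : Type u) [CommRing R]
    [IsLocalRing R] [Algebra (MvPolynomial σ B) R] (h : Laz (MvPolynomial σ B) R)
    {ι : Type} [Fintype ι] (e : ι → σ) (he : Function.Injective e) (t : ι → R)
    (ht : ∀ i, algebraMap (MvPolynomial σ B) R (X (e i)) = t i) (hm : ∀ i, t i ∈ maximalIdeal R)
    (n : ι → ℕ) (hn : ∀ i, 1 ≤ n i) :
    IsConnected (PrimeSpectrum.basicOpen (algebraMap R (SGA1t.kummer R t n) (∏ i, t i)) :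
      Set (PrimeSpectrum (SGA1t.kummer R t n))) := by
  classical
  let : Algebra B R := ((algebraMap (MvPolynomial σ B) R).comp C).toAlgebra
  have : IsScalarTower B (MvPolynomial σ B) R := IsScalarTower.of_algebraMap_eq fun x => rfl
  obtain ⟨D, _, _, _, _, _, _, θ, hL, hX, -⟩ := LazPerm.exists_kummer e t n h he ht
  have hloc := KumBasic.isLocalRing t n hm hn
  have hlocD : IsLocalRing D := θ.toRingEquiv.isLocalRing
  let iU : Algebra (MvPolynomial (ULift.{u} σ) B) (MvPolynomial σ B) :=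
    (rename ULift.down : MvPolynomial (ULift.{u} σ) B →ₐ[B] MvPolynomial σ B).toRingHom.toAlgebra
  let iD : Algebra (MvPolynomial (ULift.{u} σ) B) D :=
    ((algebraMap (MvPolynomial σ B) D).comp (algebraMap _ (MvPolynomial σ B))).toAlgebra
  have : IsScalarTower (MvPolynomial (ULift.{u} σ) B) (MvPolynomial σ B) D :=
    IsScalarTower.of_algebraMap_eq fun x => rfl
  have hwe : Algebra.WeaklyEtale (MvPolynomial (ULift.{u} σ) B) D :=
    LazPerm.weaklyEtale (LazPerm.comp (laz_ulift σ B) hL)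
  have hc := PolyConn.isConnected_basicOpen (A := B) (D := D) (σ := ULift.{u} σ)
    (Finset.univ.image (fun i => ULift.up (e i)))
  have hprod : algebraMap (MvPolynomial (ULift.{u} σ) B) D
      (∏ j ∈ Finset.univ.image (fun i => ULift.up (e i)), X j) = ∏ i, θ (KummerAlg.T t n i) := by
    rw [Finset.prod_image (fun a _ b _ hab => he (ULift.up_injective hab)), map_prod]
    refine Finset.prod_congr rfl fun i _ => ?_
    rw [← hX i]
    change algebraMap (MvPolynomial σ B) D (rename ULift.down (X (ULift.up (e i)))) = _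
    rw [rename_X]
  have hθ : θ (algebraMap R (SGA1t.kummer R t n) (∏ i, t i)) = ∏ i, θ (KummerAlg.T t n i) ^ n i := by
    rw [map_prod, map_prod]
    refine Finset.prod_congr rfl fun i _ => ?_
    rw [← map_pow, KummerAlg.T_pow]
  rw [hprod, ← basicOpen_prod_pow _ n hn, ← hθ] at hc
  refine PolyConn.isConnected_of_nil θ.toRingEquiv.toRingHom θ.surjective (fun d hd => ?_) _ hc
  have : d = 0 := θ.injective (by rw [map_zero]; exact hd)
  rw [this]
  exact IsNilpotent.zero

/-- `A ⊗[O] O'` is a localization of `K ⊗[O] O'` when `A` is a localization of `K`. -/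
theorem connectedSpace_tensor {O K A O' : Type u} [CommRing O] [CommRing K] [CommRing A] [CommRing O']
    [Algebra O K] [Algebra K A] [Algebra O A] [IsScalarTower O K A] [Algebra O O'] (f : K)
    [IsLocalization.Away f A]
    (hS : IsConnected (PrimeSpectrum.basicOpen (f ⊗ₜ[O] (1 : O')) : Set (PrimeSpectrum (K ⊗[O] O')))) :
    ConnectedSpace (PrimeSpectrum (A ⊗[O] O')) := by
  let _ : Algebra (K ⊗[O] O') (A ⊗[K] (K ⊗[O] O')) := Algebra.TensorProduct.rightAlgebra
  have hloc : IsLocalization.Away (algebraMap K (K ⊗[O] O') f) (A ⊗[K] (K ⊗[O] O')) :=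
    IsLocalization.Away.tensorRight (R := K) (S := K ⊗[O] O') (A := A) f
  have hT := connectedSpace_of_away (T := A ⊗[K] (K ⊗[O] O')) (algebraMap K (K ⊗[O] O') f) hS
  let E := PrimeSpectrum.homeomorphOfRingEquiv
    (Algebra.TensorProduct.cancelBaseChange O K A A O').toRingEquiv
  exact E.surjective.connectedSpace E.continuous

section Phi

variable {O R K O' K'' : Type u} [CommRing O] [CommRing R] [CommRing K] [CommRing O'] [CommRing K'']
    [Algebra O R] [Algebra R K] [Algebra O K] [IsScalarTower O R K] [Algebra O O']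
    [Algebra (R ⊗[O] O') K''] (b : (R ⊗[O] O') ⊗[R] K ≃ₐ[R ⊗[O] O'] K'')

/-- `K ⊗[O] O' ≃ (R ⊗[O] O') ⊗[R] K ≃ K''`. -/
noncomputable def phi : K ⊗[O] O' ≃+* K'' :=
  ((Algebra.TensorProduct.cancelBaseChange O R K K O').symm.toRingEquiv.trans
    (Algebra.TensorProduct.comm R K (R ⊗[O] O')).toRingEquiv).trans b.toRingEquiv

theorem phi_tmul (r : R) : phi b ((algebraMap R K r) ⊗ₜ[O] (1 : O')) =
    algebraMap (R ⊗[O] O') K'' (algebraMap R (R ⊗[O] O') r) := by
  have h1 : (Algebra.TensorProduct.cancelBaseChange O R K K O').symm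
      ((algebraMap R K r) ⊗ₜ[O] (1 : O')) = (algebraMap R K r) ⊗ₜ[R] (1 ⊗ₜ[O] 1) :=
    Algebra.TensorProduct.cancelBaseChange_symm_tmul O R K K O' _ _
  change b (Algebra.TensorProduct.comm R K (R ⊗[O] O')
    ((Algebra.TensorProduct.cancelBaseChange O R K K O').symm ((algebraMap R K r) ⊗ₜ[O] (1 : O')))) = _
  rw [h1, Algebra.TensorProduct.comm_tmul, Algebra.algebraMap_eq_smul_one, ← TensorProduct.smul_tmul,
    ← b.commutes, Algebra.algebraMap_eq_smul_one (A := R ⊗[O] O')]
  rfl

include b in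
theorem isConnected_phi (r : R)
    (h : IsConnected (PrimeSpectrum.basicOpen (algebraMap (R ⊗[O] O') K'' (algebraMap R (R ⊗[O] O') r)) :
      Set (PrimeSpectrum K''))) :
    IsConnected (PrimeSpectrum.basicOpen ((algebraMap R K r) ⊗ₜ[O] (1 : O')) :
      Set (PrimeSpectrum (K ⊗[O] O'))) := by
  rw [← phi_tmul b r] at h
  refine PolyConn.isConnected_of_nil (phi b).toRingHom (phi b).surjective (fun d hd => ?_) _ h
  have : d = 0 := (phi b).injective (by rw [map_zero]; exact hd)
  rw [this]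
  exact IsNilpotent.zero

end Phi

/-- (S5) of S3689. -/
theorem connStage : Stmts3.ConnStage.{u} := by
  intro O R _ _ _ _ _ _ _ _ _ _ σ _ _ _ h ι _ e he t ht hm n hn A _ _ _ _ _ O' _ _ _ _
  obtain ⟨instA, _, hL, hX⟩ := LazPerm.exists_poly_baseChange h O'
  let c : O' ⊗[O] R ≃ₐ[O] R ⊗[O] O' := Algebra.TensorProduct.comm O O' R
  let _ : Algebra (MvPolynomial σ O') (R ⊗[O] O') :=
    (c.toRingEquiv.toRingHom.comp (algebraMap (MvPolynomial σ O') (O' ⊗[O] R))).toAlgebra
  have hL' : Laz (MvPolynomial σ O') (R ⊗[O] O') :=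
    LazPerm.of_algEquiv hL { c.toRingEquiv with commutes' := fun _ => rfl }
  have _ : IsLocalRing (R ⊗[O] O') := LocTensor.isLocalRing_tensor' O O' R
  have hlocal : IsLocalHom (algebraMap R (R ⊗[O] O')) := LocTensor.isLocalHom_algebraMap R (R ⊗[O] O')
  have ht' : ∀ i, algebraMap (MvPolynomial σ O') (R ⊗[O] O') (MvPolynomial.X (e i)) =
      algebraMap R (R ⊗[O] O') (t i) := by
    intro i
    have h1 := hX (MvPolynomial.X (e i))
    rw [MvPolynomial.map_X, ht] at h1
    change c (algebraMap (MvPolynomial σ O') (O' ⊗[O] R) (MvPolynomial.X (e i))) = _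
    rw [h1]
    rfl
  have hm' : ∀ i, algebraMap R (R ⊗[O] O') (t i) ∈ maximalIdeal (R ⊗[O] O') := by
    intro i
    rw [mem_maximalIdeal, mem_nonunits_iff]
    intro hu
    exact (mem_maximalIdeal _).mp (hm i) (isUnit_of_map_unit (algebraMap R (R ⊗[O] O')) _ hu)
  have hconn := isConnected_kummer O' (R ⊗[O] O') hL' e he (fun i => algebraMap R (R ⊗[O] O') (t i))
    ht' hm' n hn
  rw [← map_prod] at hconn
  exact connectedSpace_tensor (O := O) (K := SGA1t.kummer R t n) (A := A) (O' := O')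
    (algebraMap R (SGA1t.kummer R t n) (∏ i, t i))
    (isConnected_phi (KumBasic.bc t n (R ⊗[O] O') (fun i => algebraMap R (R ⊗[O] O') (t i))
      (fun i => rfl)) (∏ i, t i) hconn)

end Groth.Agent.Pi1.H938.ConnStage
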